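import Cfsg.Agent.MQ.S.Co1.Base
import Cfsg.Agent.CoFive.Dims
import Cfsg.Agent.Lib.FinFast
import Cfsg.Agent.Prune
set_option linter.all false
prune_inst 0x7f00000000000000000000000000000000000000000000000000000000000000000000000000000000000000000000000000000000000000000000000000000000000000000000000000000000000000003fffffffffffffffffffffffffffbeffbdffffffff
open scoped Cfsg.Agent.FastGrp

/-!
# MO : `Co1` and `2.Co1`, `p = 5` (helper74)

The normaliser of the Sylow subgroup `P = 5 ^ 3 : 5` is `P : (4 × 4)`.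
-/

set_option autoImplicit false

namespace Cfsg.Agent.MO.S.Co1.Five

open Cfsg Subgroup Cfsg.Agent.MO.S.Up Cfsg.Agent.LThreeCo1.Ev Cfsg.Agent.CoFive.Abs Cfsg.Agent.CoFive.Rel
open Cfsg.Agent.CoFive.Class (dat)
open scoped commutatorElement

/-- the model -/
@[ext] structure P where
  /-- coordinate -/
  x : ZMod 5
  /-- coordinate -/
  y : ZMod 5
  /-- coordinate -/
  z : ZMod 5
  /-- coordinate -/
  k : ZMod 5

instance instDecEqP : DecidableEq P := fun _ _ => decidable_of_iff _ P.ext_iff.symm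
instance instMulP : Mul P :=
  ⟨fun p q => ⟨p.x + q.x + p.k * q.y + 3 * p.k * (p.k - 1) * q.z, p.y + q.y + p.k * q.z, p.z + q.z, p.k + q.k⟩⟩
instance instOneP : One P := ⟨⟨0, 0, 0, 0⟩⟩
instance instInvP : Inv P := ⟨fun p => ⟨-(p.x - p.k * p.y + 3 * p.k * (p.k + 1) * p.z), -(p.y - p.k * p.z), -p.z, -p.k⟩⟩

theorem mul_def (p q : P) : p * q =
    ⟨p.x + q.x + p.k * q.y + 3 * p.k * (p.k - 1) * q.z, p.y + q.y + p.k * q.z, p.z + q.z, p.k + q.k⟩ := rfl
theorem one_def : (1 : P) = ⟨0, 0, 0, 0⟩ := rfl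
theorem inv_def (p : P) :
    p⁻¹ = ⟨-(p.x - p.k * p.y + 3 * p.k * (p.k + 1) * p.z), -(p.y - p.k * p.z), -p.z, -p.k⟩ := rfl

instance instGroupP : Group P := Group.ofLeftAxioms
  (fun p q r => by
    have h : (5 : ZMod 5) = 0 := rfl
    simp only [mul_def, P.ext_iff]
    exact ⟨by linear_combination (p.k * q.k * r.z) * h, by ring, by ring, by ring⟩)
  (fun p => by
    simp only [mul_def, one_def, P.ext_iff]
    exact ⟨by ring, by ring, by ring, by ring⟩)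
  (fun p => by
    simp only [mul_def, one_def, inv_def, P.ext_iff]
    exact ⟨by ring, by ring, by ring, by ring⟩)

theorem card_P : Nat.card P = 5 ^ 4 := by
  rw [Nat.card_congr (⟨fun p => ((p.x, p.y, p.z), p.k), fun v => ⟨v.1.1, v.1.2.1, v.1.2.2, v.2⟩, fun _ => rfl, fun _ => rfl⟩ :
    P ≃ V × ZMod 5)]
  simp

private noncomputable def _root_.Cfsg.Agent.LsF.f472429_0 : {f // @Cfsg.Agent.CoFive.Abs.lin = f} := ⟨_, by first | (delta Cfsg.Agent.CoFive.Abs.lin; rewrite [Cfsg.Agent.LsF.zadd_pat, Cfsg.Agent.LsF.zmul_pat]; exact rfl) | exact rfl⟩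
private noncomputable def _root_.Cfsg.Agent.LsF.f472429_1 : {f // @Cfsg.Agent.CoFive.Abs.ac = f} := ⟨_, by first | (delta Cfsg.Agent.CoFive.Abs.ac; rewrite [Cfsg.Agent.LsF.f472429_0.2]; exact rfl) | exact rfl⟩
theorem ac_it : ∀ (i : ZMod 5) (w : V),
    ac^[i.val] w = (w.1 + i * w.2.1 + 3 * i * (i - 1) * w.2.2, w.2.1 + i * w.2.2, w.2.2) := by (refine of_decide_eq_true ?_; (try (rewrite [Cfsg.Agent.LsF.f472429_1.2, Cfsg.Agent.LsF.zadd_pat, Cfsg.Agent.LsF.zmul_pat, Cfsg.Agent.LsF.zsub_pat, Cfsg.Agent.LsF.iterate_eq, Cfsg.Agent.LsF.zdecEq_eq, Cfsg.Agent.LsF.zval_eq, Cfsg.Agent.LsF.dProdEq_eq, Cfsg.Agent.LsF.zFintype_eq, Cfsg.Agent.LsF.prodFintype_eq, Cfsg.Agent.LsF.dForall_eq, Cfsg.Agent.LsF.decide_eq])); decide +kernel)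

/-- the embedding -/
noncomputable def F : P →* Co0 :=
  MonoidHom.mk' (fun p => Ph (e 1) (e 2) (e 3) (p.x, p.y, p.z) * e 4 ^ p.k.val) fun p q => by
    rw [dat.mul, ac_it]
    simp only [mul_def, Prod.mk_add_mk, add_assoc]

theorem inj : Function.Injective F := (injective_iff_map_eq_one F).2 fun p hp => by
  replace hp : Ph (e 1) (e 2) (e 3) (p.x, p.y, p.z) * e 4 ^ p.k.val = 1 := hp
  have h1 := dat.act_pow p.k.val (0, 0, 1)
  rw [eq_inv_of_mul_eq_one_right hp, ← dat.H.neg, dat.H.ph_comm, mul_inv_cancel_right] at h1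
  have h2 : p.k = 0 := ac_inj _ 0 (dat.ph_inj h1).symm
  rw [h2, ZMod.val_zero, pow_zero, mul_one] at hp
  have h3 := dat.inj _ hp
  exact P.ext (congrArg Prod.fst h3) (congrArg (·.2.1) h3) (congrArg (·.2.2) h3) h2

/-- the second element of the torus -/
def nT : ℕ := 0x839d2739d084a1073a1093a52939d0742108520e741ce841ce842108418e942106428e9424e841ce84210842129420c8420e7424e84252842148420e849ce93a5084a1074a1073a4e739d09521084212941ce831d2842108420e84a5293a5084a1094a1094a52949d083a4e739d084a1093a1074a4e749d0849ce749d084a1094a1093a4e94a50849d2739d083a1094a10739d2749d09421084212741ce8424ea4210642129421084212741ce8424e64210a421274210842129424e6424e842108520e752108420e742528324e8421084212942908421274252841ce832108420e84a52749d084a1074a1074a5273a507421064292741d284252842108420e74210842127324e841d2842908421284a4e739d083a1074a10949ce939d0942148420e7424e842528420c8420e942108420e931d28424e842908420e74210842129424ea424e842108320e942108521294252842528421084192941908421274252841ce852108420e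

private noncomputable def _root_.Cfsg.Agent.LsF.f472429_2 : {f // @Cfsg.Agent.CoOneType.CoFast.eqM.eqR = f} := ⟨_, by first | (delta Cfsg.Agent.CoOneType.CoFast.eqM.eqR List.brecOn List.brecOn.go Cfsg.Agent.CoOneType.CoFast.eqM.eqR._f; rewrite [Cfsg.Agent.LsF.and_eq, Cfsg.Agent.LsF.instIDecEq_eq, Cfsg.Agent.LsF.decide_eq]; (try delta Cfsg.Agent.CoOneType.CoFast.eqM.eqR.match_1); (try delta Cfsg.Agent.CoOneType.CoFast.eqM.eqR._sparseCasesOn_1); (try delta Cfsg.Agent.CoOneType.CoFast.dotZ._sparseCasesOn_4); (try delta List.casesOn); first | dsimp -zeta only | exact rfl) | exact rfl⟩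
private noncomputable def _root_.Cfsg.Agent.LsF.f472429_3 : {f // @Cfsg.Agent.CoOneType.CoFast.hd = f} := ⟨_, by first | (delta Cfsg.Agent.CoOneType.CoFast.hd; rewrite [Cfsg.Agent.LsF.map_eq, Cfsg.Agent.LsF.headD_eq]; exact rfl) | exact rfl⟩
private noncomputable def _root_.Cfsg.Agent.LsF.f472429_4 : {f // @Cfsg.Agent.CoOneType.CoFast.tl = f} := ⟨_, by first | (delta Cfsg.Agent.CoOneType.CoFast.tl; rewrite [Cfsg.Agent.LsF.map_eq, Cfsg.Agent.LsF.tail_eq]; exact rfl) | exact rfl⟩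
private noncomputable def _root_.Cfsg.Agent.LsF.f472429_5 : {f // @Cfsg.Agent.CoOneType.CoFast.trZ = f} := ⟨_, by first | (delta Cfsg.Agent.CoOneType.CoFast.trZ List.brecOn Cfsg.Agent.CoOneType.CoFast.trZ._f List.brecOn.go; rewrite [Cfsg.Agent.LsF.f472429_2.2, Cfsg.Agent.LsF.f472429_3.2, Cfsg.Agent.LsF.f472429_4.2, Cfsg.Agent.LsF.and_eq]; (try delta Cfsg.Agent.CoOneType.CoFast.trZ.match_1); (try delta List.casesOn); first | dsimp -zeta only | exact rfl) | exact rfl⟩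
private noncomputable def _root_.Cfsg.Agent.LsF.f472429_6 : {f // @Cfsg.Agent.MOCo.Q5.okq = f} := ⟨_, by first | (delta Cfsg.Agent.MOCo.Q5.okq; rewrite [Cfsg.Agent.LsF.f472429_5.2, Cfsg.Agent.LsF.and_eq, Cfsg.Agent.LsF.length_eq]; exact rfl) | exact rfl⟩
private noncomputable def _root_.Cfsg.Agent.LsF.f472429_7 : {f // @Int.subNatNat = f} := ⟨_, by first | (delta Int.subNatNat; rewrite [Cfsg.Agent.LsF.nsub_pat]; (try delta Int.negOfNat.match_1); (try delta Nat.casesOn); exact rfl) | exact rfl⟩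
private noncomputable def _root_.Cfsg.Agent.LsF.f472429_8 : {f // @Cfsg.Agent.LThreeCo1.Ev.decRow = f} := ⟨_, by first | (delta Cfsg.Agent.LThreeCo1.Ev.decRow Nat.brecOn.go Nat.brecOn Cfsg.Agent.LThreeCo1.Ev.decRow._f; rewrite [Cfsg.Agent.LsF.f472429_7.2, Cfsg.Agent.LsF.ndiv_pat, Cfsg.Agent.LsF.nmod_pat]; (try delta Cfsg.Agent.LThreeCo1.Ev.decRow.match_1); (try delta Nat.casesOn); first | dsimp -zeta only | exact rfl) | exact rfl⟩
private noncomputable def _root_.Cfsg.Agent.LsF.f472429_9 : {f // @Cfsg.Agent.LThreeCo1.Ev.decRows = f} := ⟨_, by first | (delta Cfsg.Agent.LThreeCo1.Ev.decRows Nat.brecOn.go Cfsg.Agent.LThreeCo1.Ev.decRows._f Nat.brecOn; rewrite [Cfsg.Agent.LsF.f472429_8.2, Cfsg.Agent.LsF.ndiv_pat, Cfsg.Agent.LsF.nmod_pat, Cfsg.Agent.LsF.npow_pat]; (try delta Cfsg.Agent.LThreeCo1.Ev.decRow.match_1); (try delta Nat.casesOn); first | dsimp -zeta only | exact rfl) | exact rfl⟩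
private noncomputable def _root_.Cfsg.Agent.LsF.f472429_10 : {f // @Cfsg.Agent.LThreeCo1.Ev.dec = f} := ⟨_, by first | (delta Cfsg.Agent.LThreeCo1.Ev.dec; rewrite [Cfsg.Agent.LsF.f472429_9.2]; exact rfl) | exact rfl⟩
private noncomputable def _root_.Cfsg.Agent.LsF.f472429_11 : {f // @Cfsg.Agent.LThreeCo1.Ev.trAux = f} := ⟨_, by first | (delta Cfsg.Agent.LThreeCo1.Ev.trAux Nat.brecOn.go Nat.brecOn Cfsg.Agent.LThreeCo1.Ev.trAux._f; rewrite [Cfsg.Agent.LsF.f472429_3.2, Cfsg.Agent.LsF.f472429_4.2]; (try delta Cfsg.Agent.LThreeCo1.Ev.trAux.match_1); (try delta Nat.casesOn); first | dsimp -zeta only | exact rfl) | exact rfl⟩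
private noncomputable def _root_.Cfsg.Agent.LsF.f472429_12 : {f // @Cfsg.Agent.LThreeCo1.Ev.tr = f} := ⟨_, by first | (delta Cfsg.Agent.LThreeCo1.Ev.tr; rewrite [Cfsg.Agent.LsF.f472429_11.2]; exact rfl) | exact rfl⟩
theorem okT : okN nT = true := MOCo.Q5.okz_of (by ((try (rewrite [Cfsg.Agent.LsF.f472429_6.2, Cfsg.Agent.LsF.f472429_10.2, Cfsg.Agent.LsF.f472429_12.2])); decide +kernel))

/-- the commutator factor group -/
abbrev W : Type := ZMod 5 × ZMod 5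

/-- the coordinates -/
def π (p : P) : W := (p.z, p.k)

/-- the letters -/
def l (i : Fin 2) : ℕ := 5 + 7 * i.val

/-- the action on `W` -/
def A (i : Fin 2) (v : W) : W := if i = 0 then (2 * v.1 + 4 * v.2, v.2) else (v.1 + v.2, 2 * v.2)

/-- the generators -/
def gn : Fin 4 → P := ![⟨1, 0, 0, 0⟩, ⟨0, 1, 0, 0⟩, ⟨0, 0, 1, 0⟩, ⟨0, 0, 0, 1⟩]

/-- their images -/
def im : Fin 2 → Fin 4 → P :=
  ![![⟨2, 0, 0, 0⟩, ⟨0, 2, 0, 0⟩, ⟨0, 0, 2, 0⟩, ⟨1, 4, 4, 1⟩], ![⟨4, 0, 0, 0⟩, ⟨1, 2, 0, 0⟩, ⟨1, 0, 1, 0⟩, ⟨1, 1, 1, 2⟩]]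

/-- the normal form -/
def wd (p : P) : List ℕ :=
  List.replicate p.x.val 1 ++ (List.replicate p.y.val 2 ++ List.replicate p.z.val 3) ++ List.replicate p.k.val 4

/-- the words -/
def L : List (List (Fin 2)) := [[], [0], [1], [0, 0], [1, 0], [1, 1], [0, 0, 0], [1, 0, 0], [1, 1, 0], [1, 1, 1], [1, 0, 0, 0],
  [1, 1, 0, 0], [1, 1, 1, 0], [1, 1, 0, 0, 0], [1, 1, 1, 0, 0], [1, 1, 1, 0, 0, 0]]

/-- the vectors -/
def LV : List W := [0, 1, 2, 3, 4] ×ˢ [0, 1, 2, 3, 4]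

theorem wd_prod (p : P) : ((wd p).map (eX okT 12 e)).prod = F p := by
  simp only [wd, List.map_append, List.prod_append, List.map_replicate, List.prod_replicate]
  rfl

theorem k_im : ∀ i j, eqB (MX nT 12 M) (l i :: wd (gn j)) (wd (im i j) ++ [l i]) = true ∧ π (im i j) = A i (π (gn j)) := by
  delta eqB
  rewrite [MOCo.Q5.foldZ_eq]
  decide +kernel

private noncomputable def _root_.Cfsg.Agent.LsF.f472429_26 : {f // @Cfsg.Agent.MO.S.Co1.Five.instMulP = f} := ⟨_, by first | (delta Cfsg.Agent.MO.S.Co1.Five.instMulP; rewrite [Cfsg.Agent.LsF.zadd_pat, Cfsg.Agent.LsF.zmul_pat, Cfsg.Agent.LsF.zsub_pat]; exact rfl) | exact rfl⟩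
private noncomputable def _root_.Cfsg.Agent.LsF.f472429_22 : {f // @Cfsg.Agent.MO.S.Co1.Five.gn = f} := ⟨_, by first | (delta Cfsg.Agent.MO.S.Co1.Five.gn; rewrite [Cfsg.Agent.LsF.vecCons_eq]; exact rfl) | exact rfl⟩
private noncomputable def _root_.Cfsg.Agent.LsF.f472429_28 : {f // @Cfsg.Agent.MO.S.Co1.Five.instDecEqP = f} := ⟨_, by first | (delta Cfsg.Agent.MO.S.Co1.Five.instDecEqP; rewrite [Cfsg.Agent.LsF.zdecEq_eq, Cfsg.Agent.LsF.dAnd_eq, Cfsg.Agent.LsF.dIff_eq]; exact rfl) | exact rfl⟩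
theorem dec1 : ∀ x y z k : ZMod 5, (⟨x, y, z, k⟩ : P) = gn 0 ^ x.val * gn 1 ^ y.val * gn 2 ^ z.val * gn 3 ^ k.val := by
  (refine of_decide_eq_true ?_; (try (rewrite [Cfsg.Agent.LsF.f472429_26.2, Cfsg.Agent.LsF.f472429_22.2, Cfsg.Agent.LsF.f472429_28.2, Cfsg.Agent.LsF.zval_eq, Cfsg.Agent.LsF.zFintype_eq, Cfsg.Agent.LsF.dForall_eq, Cfsg.Agent.LsF.decide_eq])); decide +kernel)

theorem dec2 : ∀ x y z k : ZMod 5, (⟨x, y, z, k⟩ : P) = ⁅gn 3, (⟨0, x, y, 0⟩ : P)⁆ * gn 2 ^ z.val * gn 3 ^ k.val := by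
  (refine of_decide_eq_true ?_; (try (rewrite [Cfsg.Agent.LsF.f472429_26.2, Cfsg.Agent.LsF.f472429_22.2, Cfsg.Agent.LsF.f472429_28.2, Cfsg.Agent.LsF.zval_eq, Cfsg.Agent.LsF.zFintype_eq, Cfsg.Agent.LsF.dForall_eq, Cfsg.Agent.LsF.decide_eq])); decide +kernel)

private noncomputable def _root_.Cfsg.Agent.LsF.f472429_25 : {f // @Cfsg.Agent.MO.S.Co1.Five.A = f} := ⟨_, by first | (delta Cfsg.Agent.MO.S.Co1.Five.A; rewrite [Cfsg.Agent.LsF.zadd_pat, Cfsg.Agent.LsF.zmul_pat, Cfsg.Agent.LsF.dFinEq_eq, Cfsg.Agent.LsF.ite_eq]; exact rfl) | exact rfl⟩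
theorem mod : Mod 5 F π (fun i => eX okT 12 e (l i)) A where
  inj := inj
  pg := IsPGroup.of_card card_P
  add _ _ := rfl
  surj v := ⟨⟨0, 0, v.1, v.2⟩, rfl⟩
  ker p h := by
    rw [show p = _ from dec2 p.x p.y p.z p.k, show p.z = 0 from congrArg Prod.fst h, show p.k = 0 from congrArg Prod.snd h,
      ZMod.val_zero, pow_zero, pow_zero, mul_one, mul_one]
    exact commutator_mem_commutator (mem_top _) (mem_top _)
  act i := by
    have : Finite P := Nat.finite_of_card_ne_zero (by rw [card_P]; norm_num)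
    refine act_of_gens (fun _ _ => rfl) ((by (refine of_decide_eq_true ?_; (try (rewrite [Cfsg.Agent.LsF.f472429_25.2, Cfsg.Agent.LsF.zdecEq_eq, Cfsg.Agent.LsF.dProdEq_eq, Cfsg.Agent.LsF.zFintype_eq, Cfsg.Agent.LsF.prodFintype_eq, Cfsg.Agent.LsF.dForall_eq, Cfsg.Agent.LsF.instZAdd_pat, Cfsg.Agent.LsF.dForallFin_eq, Cfsg.Agent.LsF.decide_eq])); decide +kernel) : ∀ i u v, A i (u + v) = A i u + A i v) i) (B := Set.range gn)
      (eq_top_iff.2 fun p _ => ?_) ?_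
    · have h : ∀ j n, gn j ^ n ∈ closure (Set.range gn) := fun j n => pow_mem (Subgroup.subset_closure (Set.mem_range_self j)) n
      rw [show p = _ from dec1 p.x p.y p.z p.k]
      exact mul_mem (mul_mem (mul_mem (h _ _) (h _ _)) (h _ _)) (h _ _)
    · rintro _ ⟨j, rfl⟩
      have h := eq_of_eqB (repX okT 12 rep) (k_im i j).1
      rw [List.map_cons, List.prod_cons, List.map_append, List.prod_append, wd_prod, wd_prod, List.map_singleton,
        List.prod_singleton] at h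
      exact ⟨im i j, eq_mul_inv_of_mul_eq h.symm, (k_im i j).2⟩

/-- the automorphisms of the model -/
theorem aut {α : P → P} (h1 : ∀ x y, α (x * y) = α x * α y) (h2 : Function.Injective α) :
    ∃ s t c : ZMod 5, s ≠ 0 ∧ t ≠ 0 ∧ ∀ p, π (α p) = (p.z * s + p.k * c, p.k * t) := by
  have h3 := congrArg α (by decide : gn 3 * gn 2 = gn 2 * gn 1 * gn 3)
  have h4 := congrArg α (by decide : gn 2 * gn 1 = gn 1 * gn 2)
  have h5 : α (gn 3 * gn 1) ≠ α (gn 1 * gn 3) := fun h => absurd (h2 h) (by decide)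
  simp only [h1] at h3 h4 h5
  simp only [mul_def, P.ext_iff, ne_eq] at h3 h4 h5
  have a1 : (α (gn 1)).z = 0 := by linear_combination -h3.2.2.1
  have a2 : (α (gn 1)).k = 0 := by linear_combination -h3.2.2.2
  rw [a1, a2] at h3 h4 h5
  have a3 : (α (gn 3)).k * (α (gn 1)).y ≠ 0 := fun h => h5 ⟨by linear_combination h, by ring, by ring, by ring⟩
  have a4 : (α (gn 2)).k = 0 := (mul_eq_zero.1 (by linear_combination h4.1)).resolve_right (right_ne_zero_of_mul a3)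
  refine ⟨(α (gn 2)).z, (α (gn 3)).k, (α (gn 3)).z, fun h => right_ne_zero_of_mul a3 ?_, left_ne_zero_of_mul a3, fun p => ?_⟩
  · rw [h, a4] at h3
    linear_combination -h3.2.1
  · let f : P →* Multiplicative W := MonoidHom.mk' (fun p => Multiplicative.ofAdd (π (α p))) fun p q => by rw [h1]; rfl
    have h6 := congrArg (fun p => (f p).toAdd) (dec2 p.x p.y p.z p.k)
    have h7 : ∀ a b : Multiplicative W, ⁅a, b⁆ = 1 := fun a b => commutatorElement_eq_one_iff_mul_comm.2 (mul_comm a b)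
    simp only [map_mul, map_pow, map_commutatorElement, h7, one_mul, toAdd_mul, toAdd_pow] at h6
    refine h6.trans (Prod.ext ?_ ?_)
    · change p.z.val • (α (gn 2)).z + p.k.val • (α (gn 3)).z = _
      simp
    · change p.z.val • (α (gn 2)).k + p.k.val • (α (gn 3)).k = _
      simp [a4]

private noncomputable def _root_.Cfsg.Agent.LsF.f472429_29 : {f // @Cfsg.Agent.MO.S.Up.act = f} := ⟨_, by first | (delta Cfsg.Agent.MO.S.Up.act; rewrite [Cfsg.Agent.LsF.foldr_eq]; exact rfl) | exact rfl⟩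
theorem tri : ∀ s t c : ZMod 5, s ≠ 0 → t ≠ 0 → ∃ w ∈ L, ∀ v u : W, act A w u = (v.1 * s + v.2 * c, v.2 * t) →
    u.2 = v.2 ∧ (v.2 = 0 → u = v) := fun s t c hs ht => by
  obtain ⟨w, hw, h⟩ := (by (refine of_decide_eq_true ?_; (try (rewrite [Cfsg.Agent.LsF.f472429_29.2, Cfsg.Agent.LsF.f472429_25.2, Cfsg.Agent.LsF.zmul_pat, Cfsg.Agent.LsF.zdecEq_eq, Cfsg.Agent.LsF.zFintype_eq, Cfsg.Agent.LsF.prodFintype_eq, Cfsg.Agent.LsF.dForall_eq, Cfsg.Agent.LsF.dAnd_eq, Cfsg.Agent.LsF.dNot_eq, Cfsg.Agent.LsF.dBEx_eq, Cfsg.Agent.LsF.dAllP_eq, Cfsg.Agent.LsF.decide_eq])); decide +kernel) : ∀ s t : ZMod 5, s ≠ 0 → t ≠ 0 → ∃ w ∈ L, ∀ u : W,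
    (act A w u).2 = u.2 * t ∧ (u.2 = 0 → (act A w u).1 = u.1 * s)) s t hs ht
  refine ⟨w, hw, fun v u e => ?_⟩
  have h2 : u.2 = v.2 := mul_right_cancel₀ ht ((h u).1.symm.trans (congrArg Prod.snd e))
  refine ⟨h2, fun h0 => Prod.ext ?_ h2⟩
  have h1 : u.1 * s = v.1 * s + v.2 * c := ((h u).2 (h2.trans h0)).symm.trans (congrArg Prod.fst e)
  rw [h0, zero_mul, add_zero] at h1
  exact mul_right_cancel₀ hs h1

/-- the chain -/
def ch : ℕ → AddSubgroup W
  | 0 => ⊤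
  | 1 => (AddMonoidHom.snd _ _).ker
  | _ + 2 => ⊥

private noncomputable def _root_.Cfsg.Agent.LsF.f472429_30 : {f // @Cfsg.Agent.TAB.Eng.Dat.ord = f} := ⟨_, by first | (delta Cfsg.Agent.TAB.Eng.Dat.ord; rewrite [Cfsg.Agent.LsF.getD_eq]; exact rfl) | exact rfl⟩
private noncomputable def _root_.Cfsg.Agent.LsF.f472429_31 : {f // @Cfsg.Agent.TAB.Eng.Dat.cnt = f} := ⟨_, by first | (delta Cfsg.Agent.TAB.Eng.Dat.cnt; rewrite [Cfsg.Agent.LsF.getD_eq]; exact rfl) | exact rfl⟩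
private noncomputable def _root_.Cfsg.Agent.LsF.f472429_32 : {f // @Cfsg.Agent.MO.S.Up.okCent = f} := ⟨_, by first | (delta Cfsg.Agent.MO.S.Up.okCent; rewrite [Cfsg.Agent.LsF.f472429_30.2, Cfsg.Agent.LsF.f472429_31.2, Cfsg.Agent.LsF.nmul_pat, Cfsg.Agent.LsF.nmod_pat, Cfsg.Agent.LsF.nbeq_pat, Cfsg.Agent.LsF.nbne_pat, Cfsg.Agent.LsF.and_eq, Cfsg.Agent.LsF.or_eq, Cfsg.Agent.LsF.decLe_eq, Cfsg.Agent.LsF.all_eq, Cfsg.Agent.LsF.any_eq, Cfsg.Agent.LsF.range_eq, Cfsg.Agent.LsF.decide_eq]; exact rfl) | exact rfl⟩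
private noncomputable def _root_.Cfsg.Agent.LsF.f472429_33 : {f // @Cfsg.Agent.MO.S.Up.cnt = f} := ⟨_, by first | (delta Cfsg.Agent.MO.S.Up.cnt; rewrite [Cfsg.Agent.LsF.f472429_29.2, Cfsg.Agent.LsF.map_eq, Cfsg.Agent.LsF.sum_eq, Cfsg.Agent.LsF.dAnd_eq, Cfsg.Agent.LsF.dBAll_eq, Cfsg.Agent.LsF.ite_eq]; exact rfl) | exact rfl⟩
private noncomputable def _root_.Cfsg.Agent.LsF.f472429_13 : {f // @Cfsg.Agent.CoOneType.CoEval.eqL = f} := ⟨_, by first | (delta Cfsg.Agent.CoOneType.CoEval.eqL List.brecOn List.brecOn.go Cfsg.Agent.CoOneType.CoEval.eqL._f; rewrite [Cfsg.Agent.LsF.and_eq, Cfsg.Agent.LsF.instIDecEq_eq, Cfsg.Agent.LsF.decide_eq]; (try delta Cfsg.Agent.CoOneType.CoEval.eqL.match_1); (try delta Cfsg.Agent.CoOneType.CoEval.eqL._sparseCasesOn_1); (try delta Cfsg.Agent.CoOneType.CoEval.eqL._sparseCasesOn_2); (try delta List.casesOn); first | dsimp -zeta only | exact rfl) | exact rfl⟩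
private noncomputable def _root_.Cfsg.Agent.LsF.f472429_14 : {f // @Cfsg.Agent.SporadicStructure.Co0Matrix.dotL = f} := ⟨_, by first | (delta Cfsg.Agent.SporadicStructure.Co0Matrix.dotL List.brecOn List.brecOn.go Cfsg.Agent.SporadicStructure.Co0Matrix.dotL._f; rewrite [Cfsg.Agent.LsF.iadd_pat, Cfsg.Agent.LsF.imul_pat]; (try delta Cfsg.Agent.SporadicStructure.Co0Matrix.dotL.match_1); (try delta Cfsg.Agent.SporadicStructure.Co0Matrix.dotL._sparseCasesOn_1); first | dsimp -zeta only | exact rfl) | exact rfl⟩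
private noncomputable def _root_.Cfsg.Agent.LsF.f472429_15 : {f // @Cfsg.Agent.CoOneType.CoEval.ap = f} := ⟨_, by first | (delta Cfsg.Agent.CoOneType.CoEval.ap; rewrite [Cfsg.Agent.LsF.f472429_14.2, Cfsg.Agent.LsF.map_eq]; exact rfl) | exact rfl⟩
private noncomputable def _root_.Cfsg.Agent.LsF.f472429_16 : {f // @Cfsg.Agent.CoOneType.CoEval.fold = f} := ⟨_, by first | (delta Cfsg.Agent.CoOneType.CoEval.fold; rewrite [Cfsg.Agent.LsF.f472429_15.2, Cfsg.Agent.LsF.foldr_eq]; exact rfl) | exact rfl⟩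
private noncomputable def _root_.Cfsg.Agent.LsF.f472429_17 : {f // @Cfsg.Agent.MOCo.Q5.fq = f} := ⟨_, by first | (delta Cfsg.Agent.MOCo.Q5.fq; rewrite [Cfsg.Agent.LsF.f472429_16.2]; exact rfl) | exact rfl⟩
private noncomputable def _root_.Cfsg.Agent.LsF.f472429_18 : {f // @Cfsg.Agent.MO.S.Co1.MX = f} := ⟨_, by first | (delta Cfsg.Agent.MO.S.Co1.MX; rewrite [Cfsg.Agent.LsF.f472429_10.2, Cfsg.Agent.LsF.instDecEq_eq, Cfsg.Agent.LsF.ite_eq]; exact rfl) | exact rfl⟩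
private noncomputable def _root_.Cfsg.Agent.LsF.f472429_19 : {f // @Cfsg.Agent.CoFive.Rel.M = f} := ⟨_, by first | (delta Cfsg.Agent.CoFive.Rel.M; (try delta Cfsg.Agent.CoFive.Rel.M.match_1); (try rewrite [Cfsg.Agent.LsF.instDecEq_eq, Cfsg.Agent.LsF.dite_eq]); exact rfl) | exact rfl⟩
private noncomputable def _root_.Cfsg.Agent.LsF.f472429_20 : {f // @Cfsg.Agent.MO.S.Co1.Five.l = f} := ⟨_, by first | (delta Cfsg.Agent.MO.S.Co1.Five.l; rewrite [Cfsg.Agent.LsF.nadd_pat, Cfsg.Agent.LsF.nmul_pat]; exact rfl) | exact rfl⟩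
private noncomputable def _root_.Cfsg.Agent.LsF.f472429_23 : {f // @Cfsg.Agent.CoOneType.CoEval.betaL = f} := ⟨_, by first | (delta Cfsg.Agent.CoOneType.CoEval.betaL; rewrite [Cfsg.Agent.LsF.imul_pat, Cfsg.Agent.LsF.map_eq, Cfsg.Agent.LsF.range_eq]; exact rfl) | exact rfl⟩
theorem rows : SmC 5 1 Spor.Co1 ∧ SmC 5 2 Spor.Co1 := by
  have := H68.CoMdl.finite_co1
  refine Co1.rows (repX okT 12 rep) mod card_P (o := 6652442890469376) (by norm_num) (by norm_num)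
    (by ((try (rewrite [Cfsg.Agent.LsF.f472429_32.2, Cfsg.Agent.LsF.npow_pat])); decide +kernel)) (L := L) (fun Q hQ hC m => m.cover Q hQ hC ch 2 (fun _ => trivial) (fun _ h => h) (fun i => ?_)
      fun _ α h1 h2 _ => ?_)
    (E := [(1, 0), (0, 1)]) (LV := LV) (by (refine of_decide_eq_true ?_; (try (rewrite [Cfsg.Agent.LsF.f472429_29.2, Cfsg.Agent.LsF.f472429_25.2, Cfsg.Agent.LsF.zdecEq_eq, Cfsg.Agent.LsF.dProdEq_eq, Cfsg.Agent.LsF.map_eq, Cfsg.Agent.LsF.dNodup_eq, Cfsg.Agent.LsF.dListEq_eq, Cfsg.Agent.LsF.decide_eq])); decide +kernel)) (by (refine of_decide_eq_true ?_; (try (rewrite [Cfsg.Agent.LsF.zdecEq_eq, Cfsg.Agent.LsF.dProdEq_eq, Cfsg.Agent.LsF.dNodup_eq, Cfsg.Agent.LsF.decide_eq])); decide +kernel)) (by decide +kernel)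
    (by decide) (by (refine of_decide_eq_true ?_; (try (rewrite [Cfsg.Agent.LsF.f472429_33.2, Cfsg.Agent.LsF.f472429_25.2, Cfsg.Agent.LsF.nmul_pat, Cfsg.Agent.LsF.zdecEq_eq, Cfsg.Agent.LsF.dProdEq_eq, Cfsg.Agent.LsF.instDecEq_eq, Cfsg.Agent.LsF.length_eq, Cfsg.Agent.LsF.decide_eq])); decide +kernel)) (by decide) (by delta okL eqB; rewrite [MOCo.Q5.foldZ_eq]; (refine of_decide_eq_true ?_; (try (rewrite [Cfsg.Agent.LsF.f472429_13.2, Cfsg.Agent.LsF.f472429_17.2, Cfsg.Agent.LsF.f472429_18.2, Cfsg.Agent.LsF.f472429_19.2, Cfsg.Agent.LsF.f472429_20.2, Cfsg.Agent.LsF.f472429_23.2, Cfsg.Agent.LsF.f472429_29.2, Cfsg.Agent.LsF.f472429_25.2, Cfsg.Agent.LsF.zdecEq_eq, Cfsg.Agent.LsF.dProdEq_eq, Cfsg.Agent.LsF.all_eq, Cfsg.Agent.LsF.map_eq, Cfsg.Agent.LsF.find?_eq, Cfsg.Agent.LsF.ogetD_eq, Cfsg.Agent.LsF.dBoolEq_eq, Cfsg.Agent.LsF.dListEq_eq, Cfsg.Agent.LsF.dForallFin_eq, Cfsg.Agent.LsF.decide_eq])); decide +kernel))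 gk5 (by decide +kernel)
  · match i with
    | 0 => exact le_top
    | _ + 1 => exact bot_le
  · obtain ⟨s, t, c, hs, ht, h3⟩ := aut h1 h2
    refine (tri s t c hs ht).imp fun w hw => ⟨hw.1, fun i x u hx hu => ?_⟩
    have h4 := hw.2 (π x) u (hu.trans (h3 x))
    match i with
    | 0 => exact (sub_eq_zero.2 h4.1 :)
    | 1 => exact sub_eq_zero.2 (h4.2 hx)
    | _ + 2 => exact sub_eq_zero.2 (h4.2 (congrArg Prod.snd (show π x = 0 from hx)))

end Cfsg.Agent.MO.S.Co1.Five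

private theorem dce_25d4f1d840c2 : _root_.True := by
  try have : _root_.True := by simp only [_root_.Cfsg.Agent.MO.S.Co1.Five.wd.eq_1]
  try have : _root_.True := by simp only [_root_.Cfsg.Agent.MO.S.Co1.eX.congr_simp]
  exact _root_.True.intro
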